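import Mathlib
import Groth.Prelude
import Groth.Agent.Lib.Helper5.DRing.PCLow
import Groth.Agent.Lib.Helper5.TorAmp.PerfAmp

set_option autoImplicit false
universe u
open CategoryTheory CategoryTheory.Limits AlgebraicGeometry
attribute [local instance] HasDerivedCategory.standard

namespace Groth.Agent.Helper5.PCMor

theorem fp_of_pcHom (A B : Type u) [CommRing A] [CommRing B] [Algebra A B]
    (h : MoreMor.IsPseudoCoherentHom A B) : Algebra.FinitePresentation A B := by
  obtain ⟨n, φ, hφ, hpc⟩ := h
  letI := φ.toRingHom.toAlgebra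
  have h1 : DRing.IsPseudoCoherentModule (MvPolynomial (Fin n) A) (-1) B :=
    Groth.Agent.Helper5.TorAmp.pc_of_pc' hpc (-1)
  have h2 : Module.FinitePresentation (MvPolynomial (Fin n) A) B :=
    (Groth.Agent.Helper5.PCDev.s6935 B).2.1 h1
  have hsurj : Function.Surjective (Algebra.linearMap (MvPolynomial (Fin n) A) B) := hφ
  have h3 : (LinearMap.ker (Algebra.linearMap (MvPolynomial (Fin n) A) B)).FG :=
    Module.FinitePresentation.fg_ker _ hsurj
  refine ⟨n, φ, hφ, ?_⟩
  exact h3

end Groth.Agent.Helper5.PCMor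

namespace Groth.Agent.Helper5.PCMor

theorem s7168 {X S : Scheme.{u}} (f : X ⟶ S) (hf : MoreMor.IsPseudoCoherentMor f) :
    LocallyOfFinitePresentation f := by
  rw [HasRingHomProperty.iff_appLE (P := @LocallyOfFinitePresentation)]
  intro U V e
  have hpc := hf V.1 U.1 V.2 U.2 e
  letI := (f.appLE U.1 V.1 e).hom.toAlgebra
  have h := fp_of_pcHom _ _ hpc
  exact h

end Groth.Agent.Helper5.PCMor
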